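import Cfsg.Agent.H354.KGL.T1
import Cfsg.Agent.H644.KGV.Goals

/-!
# The linear bound from the k(GV) theorem

The proof of `bd_of_card_le` is helper354's proof of `H354.KGL.T1.rv_bd`.
-/

set_option autoImplicit false

namespace Cfsg.Agent.H475.KGV

open Cfsg.Agent.H475.KGL Subgroup Cfsg.Agent.H354.KGL.T1

universe u v

section

variable {p : ℕ} [Fact p.Prime] {V : Type v} [AddCommGroup V] [Module (ZMod p) V] [Finite V]
  [Nontrivial V]

/-- The linear bound from `k(VG) ≤ |V|`. -/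
theorem bd_of_card_le (G : Subgroup (V ≃ₗ[ZMod p] V)) (hG : ¬ p ∣ Nat.card G)
    (key : Nat.card (ConjClasses (SD G)) ≤ Nat.card V) :
    kc G ≤ Nat.card V - 1 ∧ (kc G = Nat.card V - 1 → Reg G) := by
  classical
  have : Finite (V ≃ₗ[ZMod p] V) :=
    Finite.of_injective (fun e : V ≃ₗ[ZMod p] V => (e : V → V)) DFunLike.coe_injective
  have : Finite G := inferInstance
  have : Finite (SD G) := Finite.of_injective (fun x : SD G => (x.left, x.right)) (by
    intro x y hxy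
    rw [Prod.mk.injEq] at hxy
    exact SemidirectProduct.ext hxy.1 hxy.2)
  have hcop : (Nat.card (VV G)).Coprime (Nat.card (GG G)) := by
    rw [card_VV, card_GG]
    have hp : p.Prime := Fact.out
    have : Module.Finite (ZMod p) V := Module.Finite.of_finite
    rw [Module.natCard_eq_pow_finrank (K := ZMod p) (V := V), Nat.card_zmod]
    exact Nat.Coprime.pow_left _ ((Nat.Prime.coprime_iff_not_dvd hp).2 hG)
  -- orbit representatives
  let Ω := MulAction.orbitRel.Quotient G V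
  have hfin : Finite Ω := Quotient.finite _
  have : Fintype Ω := Fintype.ofFinite Ω
  let rep : Ω → SD G := fun q => ι G (Quotient.out q)
  let S : Finset (SD G) := Finset.univ.image rep
  have hS : ∀ s, s ∈ S ↔ ∃ q : Ω, rep q = s := by
    intro s
    simp [S]
  have hout : ∀ v : V, ∃ g : G, (g : V ≃ₗ[ZMod p] V) v = Quotient.out (Quotient.mk _ v : Ω) := by
    intro v
    have h1 : (Quotient.mk _ (Quotient.out (Quotient.mk _ v : Ω)) : Ω) = Quotient.mk _ v :=
      Quotient.out_eq _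
    have h2 := Quotient.exact h1
    obtain ⟨g, hg⟩ := h2
    exact ⟨g, hg⟩
  have hrep : ∀ v ∈ VV G, ∃! s, s ∈ S ∧ ∃ g ∈ GG G, g * v * g⁻¹ = s := by
    intro x hx
    obtain ⟨v, rfl⟩ := (mem_VV G).1 hx
    obtain ⟨g, hg⟩ := hout v
    refine ⟨rep (Quotient.mk _ v), ⟨(hS _).2 ⟨_, rfl⟩, SemidirectProduct.inr g, ⟨g, rfl⟩, ?_⟩, ?_⟩
    · rw [conj_ι, hg]
    · rintro y ⟨hy, _, ⟨k, rfl⟩, hk⟩
      obtain ⟨q, rfl⟩ := (hS _).1 hy
      rw [conj_ι] at hk
      have h3 := ι_inj G hk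
      have h4 : (Quotient.mk _ v : Ω) = q := by
        rw [← Quotient.out_eq q, ← h3]
        apply Quotient.sound
        exact ⟨k⁻¹, by
          change (((k⁻¹ : G) : V ≃ₗ[ZMod p] V)) ((k : V ≃ₗ[ZMod p] V) v) = v
          rw [← LinearEquiv.mul_apply, ← Subgroup.coe_mul, inv_mul_cancel]
          rfl⟩
      rw [h4]
  have hsum := Cfsg.Agent.S4956.result (VV G) (VV_comm G) (GG G) (isCompl G) hcop S (by
    intro s hs
    obtain ⟨q, rfl⟩ := (hS s).1 hs
    exact ι_mem G _) hrep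
  -- the trivial representative
  have h1S : (1 : SD G) ∈ S := by
    obtain ⟨s, ⟨hs, g, hg, hgs⟩, -⟩ := hrep 1 (one_mem _)
    rw [mul_one, mul_inv_cancel] at hgs
    rw [hgs]
    exact hs
  have hone : kc ↥(GG G ⊓ centralizer ({(1 : SD G)} : Set (SD G))) = kc G := by
    have h1 : GG G ⊓ centralizer ({(1 : SD G)} : Set (SD G)) = GG G := by
      rw [inf_eq_left]
      intro x _
      rw [mem_centralizer_iff]
      intro y hy
      rw [Set.mem_singleton_iff.1 hy, one_mul, mul_one]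
    rw [h1]
    exact (kc_congr (MonoidHom.ofInjective
      (SemidirectProduct.inr_injective : Function.Injective
        (SemidirectProduct.inr : G →* SD G)))).symm
  rw [← Finset.add_sum_erase S _ h1S] at hsum
  change Nat.card (ConjClasses (SD G)) = kc ↥(GG G ⊓ centralizer ({(1 : SD G)} : Set (SD G))) +
    ∑ s ∈ S.erase 1, kc ↥(GG G ⊓ centralizer ({s} : Set (SD G))) at hsum
  rw [hone] at hsum
  -- a nontrivial representative
  obtain ⟨v0, hv0⟩ := exists_ne (0 : V)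
  obtain ⟨s0, ⟨hs0, g0, hg0, hgs0⟩, -⟩ := hrep (ι G v0) (ι_mem G v0)
  have hs0' : s0 ≠ 1 := by
    intro h1
    rw [h1, mul_inv_eq_one, mul_eq_left] at hgs0
    exact hv0 (ι_inj G (hgs0.trans (ι_zero G).symm))
  have hs0S : s0 ∈ S.erase 1 := Finset.mem_erase.2 ⟨hs0', hs0⟩
  have hge : (S.erase 1).card ≤
      ∑ s ∈ S.erase 1, kc ↥(GG G ⊓ centralizer ({s} : Set (SD G))) := by
    have := Finset.card_nsmul_le_sum (S.erase 1)
      (fun s => kc ↥(GG G ⊓ centralizer ({s} : Set (SD G)))) 1 (fun s _ => kc_pos _)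
    simpa using this
  have hc1 : 1 ≤ (S.erase 1).card := Finset.card_pos.2 ⟨s0, hs0S⟩
  refine ⟨by omega, fun heq => ?_⟩
  have hVpos : 0 < Nat.card V := Nat.card_pos
  have hle : ∑ s ∈ S.erase 1, kc ↥(GG G ⊓ centralizer ({s} : Set (SD G))) ≤ 1 := by omega
  have hcard : (S.erase 1).card = 1 := by omega
  obtain ⟨s1, hs1⟩ := Finset.card_eq_one.1 hcard
  have hs01 : s0 = s1 := by
    rw [hs1] at hs0S
    exact Finset.mem_singleton.1 hs0S
  subst hs01
  have htriv : GG G ⊓ centralizer ({s0} : Set (SD G)) = ⊥ := by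
    apply eq_bot_of_kc_eq_one
    rw [hs1, Finset.sum_singleton] at hle
    exact le_antisymm hle (kc_pos _)
  -- every nonzero vector is conjugate to `s0`
  have hconj : ∀ v : V, v ≠ 0 → ∃ g : G, ι G ((g : V ≃ₗ[ZMod p] V) v) = s0 := by
    intro v hv
    obtain ⟨s, ⟨hs, _, ⟨g, rfl⟩, hgs⟩, -⟩ := hrep (ι G v) (ι_mem G v)
    have hs' : s ≠ 1 := by
      intro h1
      rw [h1, mul_inv_eq_one, mul_eq_left] at hgs
      exact hv (ι_inj G (hgs.trans (ι_zero G).symm))
    have h2 : s ∈ S.erase 1 := Finset.mem_erase.2 ⟨hs', hs⟩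
    rw [hs1] at h2
    refine ⟨g, ?_⟩
    rw [← conj_ι, hgs]
    exact Finset.mem_singleton.1 h2
  refine ⟨fun v hv w hw => ?_, fun g hg v hv hgv => ?_⟩
  · obtain ⟨a, ha⟩ := hconj v hv
    obtain ⟨b, hb⟩ := hconj w hw
    refine ⟨(b : V ≃ₗ[ZMod p] V)⁻¹ * a, G.mul_mem (G.inv_mem b.2) a.2, ?_⟩
    have h1 := ι_inj G (ha.trans hb.symm)
    change (b : V ≃ₗ[ZMod p] V).symm ((a : V ≃ₗ[ZMod p] V) v) = w
    rw [LinearEquiv.symm_apply_eq]
    exact h1
  · obtain ⟨a, ha⟩ := hconj v hv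
    have h0 : ((a * ⟨g, hg⟩ * a⁻¹ : G) : V ≃ₗ[ZMod p] V) ((a : V ≃ₗ[ZMod p] V) v) =
        (a : V ≃ₗ[ZMod p] V) v := by
      have h3 : ((a * ⟨g, hg⟩ * a⁻¹ : G) : V ≃ₗ[ZMod p] V) * (a : V ≃ₗ[ZMod p] V) =
          (a : V ≃ₗ[ZMod p] V) * g := by
        rw [Subgroup.coe_mul, Subgroup.coe_mul, Subgroup.coe_inv, inv_mul_cancel_right]
      have h4 := congrArg (fun f : V ≃ₗ[ZMod p] V => f v) h3
      simp only [LinearEquiv.mul_apply] at h4
      rw [h4, hgv]
    have h1 : (SemidirectProduct.inr (a * ⟨g, hg⟩ * a⁻¹) : SD G) ∈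
        GG G ⊓ centralizer ({s0} : Set (SD G)) := by
      rw [← ha]
      exact ⟨⟨_, rfl⟩, comm_of_fix G _ _ h0⟩
    rw [htriv, mem_bot] at h1
    have h2 : a * ⟨g, hg⟩ * a⁻¹ = 1 := SemidirectProduct.inr_injective (h1.trans (map_one _).symm)
    rw [mul_inv_eq_one, mul_eq_left] at h2
    exact congrArg Subtype.val h2


end

/-- The linear bound from the k(GV) theorem. -/
theorem bd_of_main (h : Cfsg.Agent.H644.KGV.MainKGV.{u}) (p : ℕ) [Fact p.Prime] (V : Type u)
    [AddCommGroup V] [Module (ZMod p) V] [Finite V] [Nontrivial V] : Bd p V := by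
  intro G hG
  have : Finite (V ≃ₗ[ZMod p] V) :=
    Finite.of_injective (fun e : V ≃ₗ[ZMod p] V => (e : V → V)) DFunLike.coe_injective
  have : Finite G := inferInstance
  have : Finite (SD G) := Finite.of_injective (fun x : SD G => (x.left, x.right)) (by
    intro x y hxy
    rw [Prod.mk.injEq] at hxy
    exact SemidirectProduct.ext hxy.1 hxy.2)
  refine bd_of_card_le G hG ?_
  have h1 := (h p (SD G) (VV G) (VV_exp G) (by rw [index_VV]; exact hG) (VV_self G)).1
  rwa [card_VV] at h1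

end Cfsg.Agent.H475.KGV
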