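import Cfsg.Agent.H642.FongRed
import Cfsg.Agent.H669.OverCount

/-!
# The `p`-regular rank of the characters over an invariant character

`blockRank_over_le` : `θ ∈ Irr(N)` invariant under `G`: the `p`-regular rank of a set of irreducible characters of `G`
over `θ` is at most the number of `p`-regular classes of `G / N`.
-/

set_option autoImplicit false

open Cfsg

namespace Cfsg.Agent.H475.KGV

open Cfsg.Agent Cfsg.Agent.Characters.Core

universe u

theorem pRegularPart_of {G : Type u} [Group G] {p : ℕ} (f : G → ℂ) {g : G} (h : IsPRegular p g) :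
    pRegularPart p f g = f g := if_pos h

theorem pRegularPart_of_not {G : Type u} [Group G] {p : ℕ} (f : G → ℂ) {g : G}
    (h : ¬ IsPRegular p g) : pRegularPart p f g = 0 := if_neg h

theorem isPRegular_conj {G : Type u} [Group G] {p : ℕ} (g h : G) :
    IsPRegular p (h * g * h⁻¹) ↔ IsPRegular p g := by
  unfold IsPRegular
  have := (MulAut.conj h).orderOf_eq g
  rw [MulAut.conj_apply] at this
  rw [this]

theorem blockRank_over_le {G : Type u} [Group G] [Finite G] (p : ℕ) (N : Subgroup G)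
    [hN : N.Normal] [Fintype N] {θ : N → ℂ} (hθ : IsIrrCharacter N θ)
    (hinv : ∀ (g : G) (n : N), θ ⟨g * n * g⁻¹, hN.conj_mem (n : G) n.2 g⟩ = θ n)
    (B : Set (IrrCharacter G))
    (hB : ∀ χ ∈ B, classInner (fun n : N => (χ : G → ℂ) n) θ ≠ 0) :
    blockRank p B ≤
      Nat.card {C : ConjClasses (G ⧸ N) // ∃ g : G ⧸ N, ConjClasses.mk g = C ∧ ¬ p ∣ orderOf g} := by
  classical
  set I := {C : ConjClasses (G ⧸ N) // ∃ g : G ⧸ N, ConjClasses.mk g = C ∧ ¬ p ∣ orderOf g} with hI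
  set S := Submodule.span ℂ ((fun χ : IrrCharacter G => pRegularPart p (χ : G → ℂ)) '' B) with hS
  have hΦ : ∀ x : G, ∃ Φ : G → ℂ, ∀ χ : G → ℂ, IsIrrCharacter G χ →
      classInner (fun n : N => χ n) θ ≠ 0 → ∃ c : ℂ, ∀ y : G, x⁻¹ * y ∈ N → χ y = c * Φ y :=
    fun x => H669.OverCount.exists_coset_function N hθ hinv x
  choose Φ hΦ using hΦ
  -- the properties of the elements of `S`
  have h1 : ∀ f ∈ S, ∀ x : G, ∃ c : ℂ, ∀ y : G, x⁻¹ * y ∈ N → f y = c * pRegularPart p (Φ x) y := by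
    intro f hf x
    refine Submodule.span_induction ?_ ?_ ?_ ?_ hf
    · rintro _ ⟨χ, hχ, rfl⟩
      obtain ⟨c, hc⟩ := hΦ x χ χ.2 (hB χ hχ)
      refine ⟨c, fun y hy => ?_⟩
      change pRegularPart p (χ : G → ℂ) y = _
      by_cases h : IsPRegular p y
      · rw [pRegularPart_of _ h, pRegularPart_of _ h, hc y hy]
      · rw [pRegularPart_of_not _ h, pRegularPart_of_not _ h, mul_zero]
    · exact ⟨0, fun y _ => by rw [zero_mul, Pi.zero_apply]⟩
    · rintro f₁ f₂ _ _ ⟨c₁, h₁⟩ ⟨c₂, h₂⟩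
      exact ⟨c₁ + c₂, fun y hy => by rw [Pi.add_apply, h₁ y hy, h₂ y hy, add_mul]⟩
    · rintro a f₁ _ ⟨c₁, h₁⟩
      exact ⟨a * c₁, fun y hy => by rw [Pi.smul_apply, smul_eq_mul, h₁ y hy, mul_assoc]⟩
  have h2 : ∀ f ∈ S, ∀ g h : G, f (h * g * h⁻¹) = f g := by
    intro f hf g h
    refine Submodule.span_induction ?_ ?_ ?_ ?_ hf
    · rintro _ ⟨χ, hχ, rfl⟩
      change pRegularPart p (χ : G → ℂ) (h * g * h⁻¹) = pRegularPart p (χ : G → ℂ) g
      by_cases hr : IsPRegular p g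
      · rw [pRegularPart_of _ hr, pRegularPart_of _ ((isPRegular_conj g h).2 hr)]
        exact isIrr_isClassFunction χ.2 g h
      · rw [pRegularPart_of_not _ hr, pRegularPart_of_not _ (fun h' => hr ((isPRegular_conj g h).1 h'))]
    · rfl
    · rintro f₁ f₂ _ _ h₁ h₂
      rw [Pi.add_apply, Pi.add_apply, h₁, h₂]
    · rintro a f₁ _ h₁
      rw [Pi.smul_apply, Pi.smul_apply, h₁]
  have h3 : ∀ f ∈ S, ∀ g : G, ¬ IsPRegular p g → f g = 0 := by
    intro f hf g hg
    refine Submodule.span_induction ?_ ?_ ?_ ?_ hf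
    · rintro _ ⟨χ, hχ, rfl⟩
      exact pRegularPart_of_not _ hg
    · rfl
    · rintro f₁ f₂ _ _ h₁ h₂
      rw [Pi.add_apply, h₁, h₂, add_zero]
    · rintro a f₁ _ h₁
      rw [Pi.smul_apply, h₁, smul_zero]
  -- representatives
  have hrep : ∀ C : I, ∃ x : G, ConjClasses.mk (x : G ⧸ N) = C.1 := by
    intro C
    obtain ⟨q, hq⟩ := ConjClasses.mk_surjective C.1
    obtain ⟨x, rfl⟩ := QuotientGroup.mk_surjective q
    exact ⟨x, hq⟩
  choose xc hxc using hrep
  have hgood : ∀ x : G, ∃ y : G, x⁻¹ * y ∈ N ∧ ∀ f ∈ S, f y = 0 → ∀ z : G, x⁻¹ * z ∈ N → f z = 0 := by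
    intro x
    by_cases h0 : ∃ y : G, x⁻¹ * y ∈ N ∧ pRegularPart p (Φ x) y ≠ 0
    · obtain ⟨y, hy, hy0⟩ := h0
      refine ⟨y, hy, fun f hf hfy z hz => ?_⟩
      obtain ⟨c, hc⟩ := h1 f hf x
      rw [hc y hy] at hfy
      rw [hc z hz, (mul_eq_zero.1 hfy).resolve_right hy0, zero_mul]
    · push Not at h0
      refine ⟨x, by rw [inv_mul_cancel]; exact one_mem _, fun f hf _ z hz => ?_⟩
      obtain ⟨c, hc⟩ := h1 f hf x
      rw [hc z hz, h0 z hz, mul_zero]
  choose yc hyc hyc' using hgood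
  let L : S →ₗ[ℂ] (I → ℂ) :=
    { toFun := fun f C => (f : G → ℂ) (yc (xc C))
      map_add' := fun f f' => rfl
      map_smul' := fun a f => rfl }
  have hL : Function.Injective L := by
    rw [← LinearMap.ker_eq_bot, LinearMap.ker_eq_bot']
    intro f hf
    apply Subtype.ext
    funext g
    change (f : G → ℂ) g = 0
    by_cases hg : IsPRegular p g
    · have hC : ∃ q : G ⧸ N, ConjClasses.mk q = ConjClasses.mk (g : G ⧸ N) ∧ ¬ p ∣ orderOf q :=
        ⟨g, rfl, fun h => hg (h.trans (orderOf_map_dvd (QuotientGroup.mk' N) g))⟩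
      set C : I := ⟨ConjClasses.mk (g : G ⧸ N), hC⟩ with hCdef
      have h4 : IsConj (xc C : G ⧸ N) (g : G ⧸ N) := ConjClasses.mk_eq_mk_iff_isConj.1 (hxc C)
      obtain ⟨q, hq⟩ := isConj_iff.1 h4
      obtain ⟨h, rfl⟩ := QuotientGroup.mk_surjective q
      have h5 : (xc C)⁻¹ * (h⁻¹ * g * h) ∈ N := by
        rw [← QuotientGroup.eq]
        rw [QuotientGroup.mk_mul, QuotientGroup.mk_mul, QuotientGroup.mk_inv, ← hq]
        group
      have h6 := hyc' (xc C) f f.2 (congrFun hf C) _ h5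
      have h7 := h2 f f.2 g h⁻¹
      rw [inv_inv] at h7
      rw [← h7, h6]
    · exact h3 f f.2 g hg
  have : Finite (ConjClasses (G ⧸ N)) := inferInstance
  have : Finite I := Subtype.finite
  have : Fintype I := Fintype.ofFinite I
  have h8 := LinearMap.finrank_le_finrank_of_injective hL
  rw [Module.finrank_fintype_fun_eq_card, ← Nat.card_eq_fintype_card] at h8
  exact h8

end Cfsg.Agent.H475.KGV
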