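import Cfsg.Agent.H475.KGV.LRank
import Cfsg.Agent.H583.SecRank
import Cfsg.Agent.Lib.PSolvable

/-!
# S4532 from S4533
-/

set_option autoImplicit false

open Cfsg

namespace Cfsg.Agent.H475.KGV

open Cfsg.Agent Cfsg.Agent.Characters.Core

universe u

/-- The statement of S4533 (second part). -/
def PRegBound : Prop := ∀ (X : Type u) [Group X] [Finite X] [Nontrivial X] (p : ℕ) [Fact p.Prime],
  Cfsg.IsPSolvable p X → Cfsg.pPrimeCore p X = ⊥ → ∀ r : ℕ,
  Cfsg.SectionalPRankLE p r ↥(Cfsg.pCore p X) →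
  Nat.card {C : ConjClasses X // ∃ g : X, ConjClasses.mk g = C ∧ ¬ p ∣ orderOf g} < p ^ r

theorem s4532_of (h33 : PRegBound.{u}) {G : Type u} [Group G] [Finite G] (p : ℕ) [Fact p.Prime]
    (hsolv : Cfsg.IsPSolvable p G) (M : Ideal Cfsg.AlgInt) (hM : Cfsg.IsPModular p M)
    (B : Set (Cfsg.IrrCharacter G)) (hB : Cfsg.IsPBlock M B) (D : Subgroup G)
    (hD : Cfsg.IsDefectGroup p M B D) (hD1 : D ≠ ⊥) (r : ℕ)
    (hr : Cfsg.SectionalPRankLE p r D) : Cfsg.blockRank p B < p ^ r := by
  have hp : p.Prime := Fact.out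
  obtain ⟨X, _, _, f, N, hN, _, θ, B', P, hf, hNdef, hinv, hB', hmem, ⟨e⟩, hrank⟩ :=
    H642.FongRed.fong_reduction p M hM (Nat.card G) G le_rfl hsolv B hB D hD
  have hX : IsPSolvable p X := Lib.PSolvable.IsPSolvable_of_injective p hsolv f hf
  have hNp : ¬ p ∣ Nat.card N := by
    rw [hNdef]
    exact hp.coprime_iff_not_dvd.1 (Lib.Cores.pPrimeCore_coprime (G := X) p).symm
  -- the Sylow subgroup embeds in the quotient
  have hinj : ∀ x ∈ (P : Subgroup X), QuotientGroup.mk' N x = 1 → x = 1 := by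
    intro x hx h
    have h1 : x ∈ N := (QuotientGroup.eq_one_iff x).1 h
    obtain ⟨k, hk⟩ := (IsPGroup.iff_orderOf.1 P.isPGroup') ⟨x, hx⟩
    rw [Subgroup.orderOf_mk] at hk
    have h2 : orderOf x ∣ Nat.card N := by
      have := orderOf_dvd_natCard (⟨x, h1⟩ : N)
      rwa [Subgroup.orderOf_mk] at this
    rcases Nat.eq_zero_or_pos k with h0 | h0
    · rw [h0, pow_zero, orderOf_eq_one_iff] at hk
      exact hk
    · exact absurd ((dvd_pow_self p h0.ne').trans (hk ▸ h2)) hNp
  let F : P →* X ⧸ N := (QuotientGroup.mk' N).comp (P : Subgroup X).subtype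
  have hF : Function.Injective F := by
    rw [injective_iff_map_eq_one]
    intro x hx
    exact Subtype.ext (hinj x x.2 hx)
  have hcardX : (Nat.card X).factorization p = (Nat.card (X ⧸ N)).factorization p := by
    rw [Subgroup.card_eq_card_quotient_mul_card_subgroup N,
      Nat.factorization_mul Nat.card_pos.ne' Nat.card_pos.ne', Finsupp.add_apply,
      Nat.factorization_eq_zero_of_not_dvd hNp, add_zero]
  have e' : P ≃* F.range := MonoidHom.ofInjective hF
  have hcr : Nat.card F.range = p ^ (Nat.card (X ⧸ N)).factorization p := by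
    rw [← Nat.card_congr e'.toEquiv, ← hcardX]
    exact P.card_eq_multiplicity
  let Q : Sylow p (X ⧸ N) := Sylow.ofCard F.range hcr
  have hQ : (Q : Subgroup (X ⧸ N)) = F.range := rfl
  -- nontrivial
  have hnt : Nontrivial (X ⧸ N) := by
    by_contra h
    rw [not_nontrivial_iff_subsingleton] at h
    apply hD1
    rw [eq_bot_iff]
    intro d hd
    have h1 : F (e ⟨d, hd⟩) = F 1 := Subsingleton.elim _ _
    have h2 : (⟨d, hd⟩ : D) = 1 := e.injective ((hF h1).trans (map_one e).symm)
    exact congrArg Subtype.val h2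
  -- the sectional rank
  have hcore : pCore p (X ⧸ N) ≤ F.range := Lib.Cores.pCore_le_sylow Q
  have hr1 : SectionalPRankLE p r F.range := H583.SecRank.sectional_of_mulEquiv hr (e.trans e')
  have hr2 : SectionalPRankLE p r (pCore p (X ⧸ N)) :=
    H583.SecRank.sectional_of_injective hr1 (Subgroup.inclusion hcore)
      (Subgroup.inclusion_injective hcore)
  have hcore' : pPrimeCore p (X ⧸ N) = ⊥ := by
    subst hNdef
    exact Lib.Cores.pPrimeCore_quotient_pPrimeCore p
  have h1 := h33 (X ⧸ N) p (PLocal.PSolvable.isPSolvable_quotient hX N) hcore' r hr2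
  refine (hrank.trans ?_).trans_lt h1
  exact blockRank_over_le p N θ.2 hinv B' fun χ hχ => (hmem χ).1 hχ

end Cfsg.Agent.H475.KGV
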